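import Groth.Agent.QuasiSect5.Ring
import Groth.Agent.UnivOpen.Conditions
import Mathlib.AlgebraicGeometry.Morphisms.UniversallyOpen

/-!
# Finite covers of affine integral bases with local sections
-/

set_option autoImplicit false
set_option linter.style.haveILetI false

universe u

open CategoryTheory AlgebraicGeometry Limits

namespace Groth.Agent.QuasiSect5

/-- `g : Y' ⟶ Y` admits, near every point of `Y'` over `S`, a map to `X` over `Y`. -/
def HasLocSec {X Y Y' : Scheme.{u}} (f : X ⟶ Y) (g : Y' ⟶ Y) (S : Set Y) : Prop :=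
  ∀ y' : Y', g y' ∈ S → ∃ (W : Scheme.{u}) (j : W ⟶ Y') (_ : IsOpenImmersion j),
    y' ∈ Set.range j ∧ ∃ s : W ⟶ X, s ≫ f = j ≫ g

theorem exists_closed_in_fibre {X Y : Scheme.{u}} (f : X ⟶ Y) [LocallyOfFiniteType f] (y : Y)
    (h : ∃ x, f x = y) : ∃ x, f x = y ∧ ∀ x', f x' = f x → x ⤳ x' → x' = x := by
  have hne : (Set.univ : Set ↥(f.fiber y)).Nonempty := by
    obtain ⟨x, hx⟩ := h
    obtain ⟨a, -⟩ : x ∈ Set.range (f.fiberι y) := by rw [Scheme.Hom.range_fiberι]; exact hx
    exact ⟨a, trivial⟩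
  obtain ⟨a, -, ha⟩ := nonempty_inter_closedPoints hne isClosed_univ.isLocallyClosed
  have hfa : ∀ b, f (f.fiberι y b) = y := fun b => by
    have : f.fiberι y b ∈ Set.range (f.fiberι y) := ⟨b, rfl⟩
    rw [Scheme.Hom.range_fiberι] at this
    exact this
  refine ⟨f.fiberι y a, hfa a, fun x' hx' hs => ?_⟩
  obtain ⟨b, rfl⟩ : x' ∈ Set.range (f.fiberι y) := by
    rw [Scheme.Hom.range_fiberι]; exact hx'.trans (hfa a)
  have hab : a ⤳ b := (f.fiberι y).isEmbedding.isInducing.specializes_iff.1 hs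
  rw [mem_closedPoints_iff] at ha
  exact congrArg _ ((hab.mem_closed ha rfl : b ∈ ({a} : Set _)))

variable {A : Type u} [CommRing A] [IsDomain A] [IsNoetherianRing A]

set_option maxHeartbeats 1000000 in
set_option synthInstance.maxHeartbeats 200000 in
theorem exists_section_near {X : Scheme.{u}} (f : X ⟶ Spec (CommRingCat.of A)) [UniversallyOpen f] [Surjective f]
    [LocallyOfFiniteType f] (n : Ideal (N A)) [n.IsPrime] :
    ∃ B : Subalgebra A (Ω A), B.FG ∧ B ≤ N A ∧ ∃ s : B, (∀ hs : (s : Ω A) ∈ N A, (⟨s, hs⟩ : N A) ∉ n) ∧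
      ∃ m : Spec (CommRingCat.of (Localization.Away s)) ⟶ X,
        m ≫ f = Spec.map (CommRingCat.ofHom ((algebraMap B (Localization.Away s)).comp (algebraMap A B))) := by
  classical
  obtain ⟨E, hEN, hEK, hsep⟩ := exists_separating A n
  let B₀ := Algebra.adjoin A (↑E : Set (Ω A))
  have hB₀ : B₀ ≤ N A := Algebra.adjoin_le fun e he => hEN e he
  have hK : (B₀ : Set (Ω A)) ⊆ Set.range (algebraMap (FractionRing A) (Ω A)) := by
    have : B₀ ≤ (IsScalarTower.toAlgHom A (FractionRing A) (Ω A)).range := Algebra.adjoin_le fun e he => hEK he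
    exact fun c hc => this hc
  have hsep' : ∀ P : Ideal (N A), P.IsPrime →
      (∀ c : B₀, (Subalgebra.inclusion hB₀ c ∈ P ↔ Subalgebra.inclusion hB₀ c ∈ n)) →
      ∀ z : N A, (z : Ω A) ∈ Set.range (algebraMap (FractionRing A) (Ω A)) → (z ∈ P ↔ z ∈ n) :=
    fun P hP h => hsep P hP (Ideal.ext fun a => h (algebraMap A B₀ a)) fun e _ heE => h ⟨e, Algebra.subset_adjoin heE⟩
  haveI : Algebra.FiniteType A B₀ := (Subalgebra.fg_iff_finiteType B₀).1 ⟨E, rfl⟩
  haveI : IsNoetherianRing B₀ := Algebra.FiniteType.isNoetherianRing A B₀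
  let b : Ideal B₀ := n.comap (Subalgebra.inclusion hB₀).toRingHom
  let π : Spec (CommRingCat.of B₀) ⟶ Spec (CommRingCat.of A) := Spec.map (CommRingCat.ofHom (algebraMap A B₀))
  haveI : UniversallyOpen (pullback.snd f π) := inferInstance
  haveI : Surjective (pullback.snd f π) := inferInstance
  let bp : Spec (CommRingCat.of B₀) := ⟨b, Ideal.comap_isPrime _ _⟩
  obtain ⟨x, hx, hcl⟩ := exists_closed_in_fibre (pullback.snd f π) bp ((pullback.snd f π).surjective bp)
  obtain ⟨T, i, hi, hirr, hred, ⟨t, ht⟩, hlft, hlqf, -, hdom⟩ := UnivOpen.exists_quasiSection_of_univOpen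
    (pullback.snd f π) (x := x) (fun z _ U hU => (pullback.snd f π).isOpenMap.image_mem_nhds hU) hcl
  obtain ⟨V, hV, htV, -⟩ := exists_isAffineOpen_mem_and_subset (x := t) (U := ⊤) (by trivial)
  let ρ : Spec Γ(T, V) ⟶ Spec (CommRingCat.of B₀) := hV.fromSpec ≫ i ≫ pullback.snd f π
  obtain ⟨ψ, hψ⟩ := Spec.map_surjective ρ
  letI : Algebra B₀ Γ(T, V) := ψ.hom.toAlgebra
  haveI : Nonempty T := ⟨t⟩
  haveI : IsIntegral T := isIntegral_of_irreducibleSpace_of_isReduced T
  haveI : Nonempty (V : Scheme.{u}) := ⟨⟨t, htV⟩⟩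
  haveI : IsDomain Γ(T, V) := inferInstance
  haveI : LocallyOfFiniteType ρ := inferInstance
  haveI : LocallyQuasiFinite ρ := inferInstance
  haveI : Algebra.FiniteType B₀ Γ(T, V) := by
    rw [← RingHom.finiteType_algebraMap, RingHom.algebraMap_toAlgebra,
      ← HasRingHomProperty.Spec_iff (P := @LocallyOfFiniteType), hψ]
    infer_instance
  haveI : Algebra.QuasiFinite B₀ Γ(T, V) := by
    rw [← RingHom.quasiFinite_algebraMap, RingHom.algebraMap_toAlgebra,
      ← HasRingHomProperty.Spec_iff (P := @LocallyQuasiFinite), hψ]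
    infer_instance
  have hdense : DenseRange ρ := by
    have h1 : DenseRange hV.fromSpec := by
      rw [DenseRange, IsAffineOpen.range_fromSpec]
      exact V.isOpen.dense ⟨t, htV⟩
    have h2 := (i ≫ pullback.snd f π).denseRange
    exact h2.comp h1 (i ≫ pullback.snd f π).continuous
  have hinj : Function.Injective (algebraMap B₀ Γ(T, V)) := by
    rw [← hψ] at hdense
    have h3 : RingHom.ker ψ.hom ≤ nilradical B₀ := (PrimeSpectrum.denseRange_comap_iff_ker_le_nilRadical ψ.hom).1 hdense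
    rw [show nilradical B₀ = ⊥ from nilradical_eq_zero B₀, le_bot_iff] at h3
    exact (RingHom.injective_iff_ker_eq_bot _).2 h3
  let tp : Spec Γ(T, V) := hV.primeIdealOf ⟨t, htV⟩
  have htp : ρ tp = bp := by
    rw [Scheme.Hom.comp_apply, hV.fromSpec_primeIdealOf, Scheme.Hom.comp_apply, ht, hx]
  have hq : ∀ c : B₀, algebraMap B₀ Γ(T, V) c ∈ tp.asIdeal ↔ Subalgebra.inclusion hB₀ c ∈ n := by
    intro c
    rw [← hψ] at htp
    exact SetLike.ext_iff.1 (congrArg PrimeSpectrum.asIdeal htp) c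
  obtain ⟨B, hBfg, hBN, s, hs, g, hg⟩ :=
    exists_section_ring A n B₀ ⟨E, rfl⟩ hB₀ hK hsep' Γ(T, V) hinj tp.asIdeal hq
  refine ⟨B, hBfg, hBN, s, hs, Spec.map (CommRingCat.ofHom g) ≫ hV.fromSpec ≫ i ≫ pullback.fst f π, ?_⟩
  simp only [Category.assoc, pullback.condition]
  rw [show Spec.map (CommRingCat.ofHom g) ≫ hV.fromSpec ≫ i ≫ pullback.snd f π ≫ π =
    Spec.map (CommRingCat.ofHom g) ≫ ρ ≫ π by simp [ρ], ← hψ, ← Spec.map_comp, ← Spec.map_comp]
  congr 1
  exact CommRingCat.hom_ext (RingHom.ext fun a => hg a)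

set_option maxHeartbeats 1000000 in
theorem exists_cover_affine_domain {X : Scheme.{u}} (f : X ⟶ Spec (CommRingCat.of A)) [UniversallyOpen f]
    [Surjective f] [LocallyOfFiniteType f] :
    ∃ (B : Type u) (_ : CommRing B) (_ : Algebra A B), Module.Finite A B ∧ Function.Injective (algebraMap A B) ∧
      HasLocSec f (Spec.map (CommRingCat.ofHom (algebraMap A B))) Set.univ := by
  classical
  choose B hBfg hBN s hs m hm using fun n : PrimeSpectrum (N A) => exists_section_near f n.asIdeal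
  let c : ∀ n : PrimeSpectrum (N A), N A := fun n => ⟨s n, hBN n (s n).2⟩
  obtain ⟨t, ht⟩ := isCompact_univ.elim_finite_subcover (fun n => (PrimeSpectrum.basicOpen (c n) : Set (PrimeSpectrum (N A))))
    (fun n => (PrimeSpectrum.basicOpen (c n)).isOpen)
    fun n _ => Set.mem_iUnion.2 ⟨n, hs n _⟩
  let C : Subalgebra A (Ω A) := t.sup B
  have hC : C.FG := Finset.sup_induction ⟨∅, by simp⟩ (fun _ h _ h' => h.sup h') fun n _ => hBfg n
  have hCN : C ≤ N A := Finset.sup_le fun n _ => hBN n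
  haveI : Algebra.IsIntegral A C :=
    ⟨fun z => (isIntegral_algHom_iff C.val Subtype.val_injective).1 (hCN z.2)⟩
  haveI : Algebra.FiniteType A C := (Subalgebra.fg_iff_finiteType C).1 hC
  refine ⟨C, inferInstance, inferInstance, Algebra.IsIntegral.finite,
    fun a b h => ((algebraMap (FractionRing A) (Ω A)).injective.comp (IsFractionRing.injective A (FractionRing A))) (congrArg Subtype.val h), fun y' _ => ?_⟩
  letI : Algebra C (N A) := (Subalgebra.inclusion hCN).toRingHom.toAlgebra
  haveI : IsScalarTower A C (N A) := .of_algebraMap_eq fun _ => rfl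
  haveI : Algebra.IsIntegral C (N A) := ⟨fun z => IsIntegral.tower_top (integralClosure.isIntegral z)⟩
  haveI : y'.asIdeal.IsPrime := y'.2
  obtain ⟨P, hP, hPy⟩ := Ideal.exists_ideal_over_prime_of_isIntegral_of_isDomain (S := N A) y'.asIdeal
    (le_of_eq_of_le ((RingHom.injective_iff_ker_eq_bot _).1 (Subalgebra.inclusion_injective hCN)) bot_le)
  obtain ⟨k, hk, hPk⟩ := Set.mem_iUnion₂.1 (ht (Set.mem_univ (⟨P, hP⟩ : PrimeSpectrum (N A))))
  have hle : B k ≤ C := Finset.le_sup hk
  let r : C := ⟨s k, hle (s k).2⟩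
  haveI : IsLocalization.Away ((Subalgebra.inclusion hle).toRingHom (s k)) (Localization.Away r) :=
    inferInstanceAs (IsLocalization.Away r (Localization.Away r))
  let w : Localization.Away (s k) →+* Localization.Away r :=
    IsLocalization.Away.map _ _ (Subalgebra.inclusion hle).toRingHom (s k)
  refine ⟨Spec (CommRingCat.of (Localization.Away r)),
    Spec.map (CommRingCat.ofHom (algebraMap C (Localization.Away r))),
    IsOpenImmersion.of_isLocalization r, ?_, Spec.map (CommRingCat.ofHom w) ≫ m k, ?_⟩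
  · have h1 := PrimeSpectrum.localization_away_comap_range (Localization.Away r) r
    change y' ∈ Set.range (PrimeSpectrum.comap (algebraMap C (Localization.Away r)))
    rw [h1]
    exact fun h => hPk ((SetLike.ext_iff.1 hPy r).2 h)
  · rw [Category.assoc, hm, ← Spec.map_comp, ← Spec.map_comp, ← CommRingCat.ofHom_comp, ← CommRingCat.ofHom_comp]
    congr 2
    refine RingHom.ext fun a => ?_
    show w (algebraMap (B k) (Localization.Away (s k)) (algebraMap A (B k) a)) = _
    simp only [w, IsLocalization.Away.map, IsLocalization.map_eq]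
    rfl

end Groth.Agent.QuasiSect5
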