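import Groth.Agent.S2474
import Mathlib.RingTheory.ZariskisMainTheorem
import Mathlib.RingTheory.Localization.AsSubring
import Mathlib.RingTheory.Localization.Integral
import Mathlib.FieldTheory.IsAlgClosed.AlgebraicClosure
import Mathlib.FieldTheory.Normal.Basic

/-!
# Points of the absolute integral closure of a Noetherian domain
-/

set_option autoImplicit false
set_option linter.style.haveILetI false

universe u

open Polynomial

namespace Groth.Agent.QuasiSect5

variable (A : Type u) [CommRing A] [IsDomain A]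

set_option synthInstance.maxHeartbeats 200000 in
set_option maxHeartbeats 800000 in
/-- The integral closure in the fraction field has finitely many primes over a given one. -/
theorem finite_primes_over [IsNoetherianRing A] (p : Ideal A) [p.IsPrime] :
    {P : Ideal (integralClosure A (FractionRing A)) | P.IsPrime ∧ P.comap (algebraMap A _) = p}.Finite := by
  let K := FractionRing A
  have hle : p.primeCompl ≤ nonZeroDivisors A := p.primeCompl_le_nonZeroDivisors
  let A' : Subalgebra A K := Localization.subalgebra.ofField K p.primeCompl hle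
  haveI : IsLocalization.AtPrime A' p := Localization.subalgebra.isLocalization_ofField K p.primeCompl hle
  haveI : IsLocalRing A' := IsLocalization.AtPrime.isLocalRing A' p
  haveI : IsNoetherianRing A' := IsLocalization.isNoetherianRing p.primeCompl A' inferInstance
  haveI : IsFractionRing A' K := Localization.subalgebra.isFractionRing_ofField K p.primeCompl hle
  letI : Algebra (FractionRing A') K := FractionRing.liftAlgebra A' K
  haveI : IsScalarTower A' (FractionRing A') K := FractionRing.isScalarTower_liftAlgebra A' K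
  haveI : FiniteDimensional (FractionRing A') K := by
    refine Module.Finite.of_surjective (Algebra.linearMap (FractionRing A') K) fun z => ?_
    obtain ⟨a, b, hb, rfl⟩ := IsFractionRing.div_surjective A' z
    refine ⟨algebraMap A' _ a / algebraMap A' _ b, ?_⟩
    rw [Algebra.linearMap_apply, map_div₀, ← IsScalarTower.algebraMap_apply, ← IsScalarTower.algebraMap_apply]
  obtain ⟨hfin, -⟩ := S2474.result (A := A') (K' := K)
  let ι : integralClosure A K →+* integralClosure A' K :=
    { toFun := fun z => ⟨z.1, IsIntegral.tower_top z.2⟩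
      map_one' := rfl
      map_mul' := fun _ _ => rfl
      map_zero' := rfl
      map_add' := fun _ _ => rfl }
  refine (hfin.image (Ideal.comap ι)).subset ?_
  rintro P ⟨hP, hPA⟩
  let Q : Ideal (integralClosure A' K) :=
    { carrier := {z | ∃ t : A, t ∉ p ∧ ∃ π ∈ P, algebraMap A K t * (z : K) = (π : K)}
      zero_mem' := ⟨1, p.primeCompl.one_mem, 0, P.zero_mem, by simp⟩
      add_mem' := by
        rintro a b ⟨t, ht, π, hπ, h⟩ ⟨t', ht', π', hπ', h'⟩
        refine ⟨t * t', p.primeCompl.mul_mem ht ht', algebraMap A _ t' * π + algebraMap A _ t * π',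
          P.add_mem (P.mul_mem_left _ hπ) (P.mul_mem_left _ hπ'), ?_⟩
        simp only [Subalgebra.coe_add, Subalgebra.coe_mul, Subalgebra.coe_algebraMap, map_mul, ← h, ← h']
        ring
      smul_mem' := by
        rintro c a ⟨t, ht, π, hπ, h⟩
        obtain ⟨m, hm⟩ := IsIntegral.exists_multiple_integral_of_isLocalization p.primeCompl (c : K) c.2
        refine ⟨m.1 * t, p.primeCompl.mul_mem m.2 ht, ⟨_, hm⟩ * π, P.mul_mem_left _ hπ, ?_⟩
        show algebraMap A K (m.1 * t) * ((c : K) * (a : K)) = (m • (c : K)) * (π : K)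
        rw [← h, Submonoid.smul_def, Algebra.smul_def, map_mul]
        ring }
  have hQ : Q ≠ ⊤ := by
    intro hq
    obtain ⟨t, ht, π, hπ, h⟩ : (1 : integralClosure A' K) ∈ Q := hq ▸ trivial
    apply ht
    rw [← hPA, Ideal.mem_comap]
    have : (algebraMap A (integralClosure A K) t) = π := Subtype.ext (by
      simpa using h)
    rwa [this]
  obtain ⟨M, hM, hQM⟩ := Ideal.exists_le_maximal Q hQ
  refine ⟨M, hM, ?_⟩
  have hle' : P ≤ M.comap ι := fun π hπ => hQM ⟨1, p.primeCompl.one_mem, π, hπ, by simp [ι]⟩
  haveI : (M.comap ι).IsPrime := Ideal.comap_isPrime _ _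
  haveI := hM
  have hm := @Ideal.isMaximal_comap_of_isIntegral_of_isMaximal A' _ (integralClosure A' K) (integralClosure A' K).toCommRing _ integralClosure.AlgebraIsIntegral M hM
  have hMA : (M.comap ι).comap (algebraMap A (integralClosure A K)) = p := by
    rw [Ideal.comap_comap, ← IsLocalization.AtPrime.under_maximalIdeal A' p,
      ← IsLocalRing.eq_maximalIdeal hm, Ideal.under, Ideal.comap_comap]
    rfl
  by_contra hne
  have := Ideal.IsIntegral.comap_lt_comap (R := A) (lt_of_le_of_ne hle' (Ne.symm hne))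
  rw [hPA, hMA] at this
  exact lt_irrefl _ this

/-- The fraction field's algebraic closure. -/
abbrev Ω := AlgebraicClosure (FractionRing A)

/-- The absolute integral closure. -/
noncomputable abbrev N : Subalgebra A (Ω A) := integralClosure A (Ω A)

instance : IsScalarTower A (FractionRing A) (Ω A) := inferInstance

/-- If no conjugate of an element avoids `Q`, neither does the element avoid `P`. -/
theorem exists_conj_notMem (P Q : Ideal (N A)) [P.IsPrime] [Q.IsPrime]
    (h : ∀ z : N A, (z : Ω A) ∈ Set.range (algebraMap (FractionRing A) (Ω A)) → z ∈ Q → z ∈ P)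
    (x : N A) (hx : x ∉ P) :
    ∃ σ : Ω A ≃ₐ[FractionRing A] Ω A, ∀ hσ : σ x ∈ N A, (⟨σ x, hσ⟩ : N A) ∉ Q := by
  by_contra! hall
  let f := minpoly (FractionRing A) (x : Ω A)
  have hxi : IsIntegral (FractionRing A) (x : Ω A) := IsIntegral.tower_top x.2
  let g := f.map (algebraMap (FractionRing A) (Ω A))
  have hroot : ∀ r ∈ g.roots, ∃ hr : r ∈ N A, (⟨r, hr⟩ : N A) ∈ Q := by
    intro r hr
    rw [Polynomial.mem_roots'] at hr
    obtain ⟨σ, hσ⟩ := minpoly.exists_algEquiv_of_root' (K := FractionRing A) hxi.isAlgebraic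
      (show (Polynomial.aeval r) f = 0 by rw [Polynomial.aeval_def, ← Polynomial.eval_map]; exact hr.2)
    obtain ⟨h1, h2⟩ := hall σ
    subst hσ
    exact ⟨h1, h2⟩
  choose hrN hrQ using hroot
  let G : (N A)[X] := (g.roots.attach.map fun r => X - C (⟨r.1, hrN r.1 r.2⟩ : N A)).prod
  have hG : G.map (N A).val.toRingHom = g := by
    conv_rhs => rw [(IsAlgClosed.splits g).eq_prod_roots_of_monic ((minpoly.monic hxi).map _)]
    rw [Polynomial.map_multiset_prod, Multiset.map_map]
    conv_rhs => rw [← g.roots.attach_map_val, Multiset.map_map]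
    congr 1
    refine Multiset.map_congr rfl fun r _ => ?_
    simp
  have hGQ : G.map (Ideal.Quotient.mk Q) = X ^ Multiset.card g.roots := by
    rw [Polynomial.map_multiset_prod, Multiset.map_map]
    rw [show (Multiset.map (Polynomial.map (Ideal.Quotient.mk Q) ∘ fun r : {r // r ∈ g.roots} => X - C (⟨r.1, hrN r.1 r.2⟩ : N A)) g.roots.attach)
        = Multiset.replicate (Multiset.card g.roots) X from ?_, Multiset.prod_replicate]
    rw [Multiset.eq_replicate, Multiset.card_map, Multiset.card_attach]
    refine ⟨rfl, fun b hb => ?_⟩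
    obtain ⟨r, -, rfl⟩ := Multiset.mem_map.1 hb
    simp [Ideal.Quotient.eq_zero_iff_mem.2 (hrQ r.1 r.2)]
  have hGP : G.map (Ideal.Quotient.mk P) = X ^ Multiset.card g.roots := by
    ext i
    have hi := congr_arg (fun q => Polynomial.coeff q i) hGQ
    simp only [Polynomial.coeff_map, Polynomial.coeff_X_pow] at hi ⊢
    by_cases hd : i = Multiset.card g.roots
    · rw [if_pos hd] at hi ⊢
      have h2 : G.Monic := monic_multiset_prod_of_monic _ _ fun r _ => monic_X_sub_C _
      have h3 : G.natDegree = Multiset.card g.roots := by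
        rw [show G = ((g.roots.attach.map fun r => (⟨r.1, hrN r.1 r.2⟩ : N A)).map fun a => X - C a).prod by
          rw [Multiset.map_map]; rfl, natDegree_multiset_prod_X_sub_C_eq_card, Multiset.card_map, Multiset.card_attach]
      rw [hd, ← h3, h2.coeff_natDegree, map_one]
    · rw [if_neg hd] at hi ⊢
      rw [Ideal.Quotient.eq_zero_iff_mem] at hi ⊢
      refine h _ ⟨f.coeff i, ?_⟩ hi
      have := congr_arg (fun q => Polynomial.coeff q i) hG
      simp only [Polynomial.coeff_map, g] at this
      exact this.symm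
  refine hx (Ideal.Quotient.eq_zero_iff_mem.1 ?_)
  have hev : G.eval x = 0 := by
    apply Subtype.val_injective
    have : (N A).val.toRingHom (G.eval x) = g.eval (x : Ω A) := by
      rw [← hG, Polynomial.eval_map]; exact (Polynomial.hom_eval₂ G (RingHom.id _) (N A).val.toRingHom x)
    refine this.trans ?_
    rw [Polynomial.eval_map, ← Polynomial.aeval_def, minpoly.aeval]
    rfl
  have h4 := congr_arg (Ideal.Quotient.mk P) hev
  rw [map_zero, ← Polynomial.eval₂_hom, ← Polynomial.eval_map, hGP, eval_pow, eval_X] at h4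
  exact eq_zero_of_pow_eq_zero h4

/-- Finitely many elements of the fraction field tell apart the primes over `n ∩ A`. -/
theorem exists_separating [IsNoetherianRing A] (n : Ideal (N A)) [n.IsPrime] :
    ∃ E : Finset (Ω A), (∀ e ∈ E, e ∈ N A) ∧ (↑E ⊆ Set.range (algebraMap (FractionRing A) (Ω A))) ∧
      ∀ P : Ideal (N A), P.IsPrime → P.comap (algebraMap A (N A)) = n.comap (algebraMap A (N A)) →
        (∀ e (he : e ∈ N A), e ∈ E → ((⟨e, he⟩ : N A) ∈ P ↔ (⟨e, he⟩ : N A) ∈ n)) →
        ∀ z : N A, (z : Ω A) ∈ Set.range (algebraMap (FractionRing A) (Ω A)) → (z ∈ P ↔ z ∈ n) := by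
  classical
  let C := integralClosure A (FractionRing A)
  let ι : C →ₐ[A] N A := ((IsScalarTower.toAlgHom A (FractionRing A) (Ω A)).comp C.val).codRestrict (N A)
    fun c => IsIntegral.map (IsScalarTower.toAlgHom A (FractionRing A) (Ω A)) c.2
  haveI : (n.comap (algebraMap A (N A))).IsPrime := Ideal.comap_isPrime _ _
  haveI := (finite_primes_over A (n.comap (algebraMap A (N A)))).to_subtype
  let S := {P : Ideal C | P.IsPrime ∧ P.comap (algebraMap A _) = n.comap (algebraMap A (N A))}
  haveI : Finite S := inferInstance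
  haveI := Fintype.ofFinite S
  have hw : ∀ pr : S × S, ∃ c : C, pr.1.1 ≠ pr.2.1 → ¬ (c ∈ pr.1.1 ↔ c ∈ pr.2.1) := fun pr => by
    by_cases h : pr.1.1 = pr.2.1
    · exact ⟨0, fun h' => absurd h h'⟩
    · by_contra! hc
      exact h (Ideal.ext fun c => (hc c).2)
  choose w hw using hw
  refine ⟨Finset.univ.image fun pr : S × S => ((ι (w pr)) : Ω A), ?_, ?_, ?_⟩
  · intro e he
    obtain ⟨pr, -, rfl⟩ := Finset.mem_image.1 he
    exact (ι (w pr)).2
  · intro e he
    rw [Finset.coe_image] at he
    obtain ⟨pr, -, rfl⟩ := he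
    exact ⟨_, rfl⟩
  intro P hP hPA hE z hz
  have hmem : ∀ Q : Ideal (N A), Q.IsPrime → Q.comap (algebraMap A (N A)) = n.comap (algebraMap A (N A)) →
      Q.comap ι ∈ S := fun Q hQ hQA => ⟨Ideal.comap_isPrime _ _, by
    rw [← hQA, ← AlgHom.comp_algebraMap ι, ← Ideal.comap_comap]; rfl⟩
  have heq : P.comap ι = n.comap ι := by
    by_contra hne
    let pr : S × S := (⟨_, hmem P hP hPA⟩, ⟨_, hmem n inferInstance rfl⟩)
    exact hw pr hne (hE _ (ι (w pr)).2 (Finset.mem_image.2 ⟨pr, Finset.mem_univ _, rfl⟩))
  obtain ⟨a, ha⟩ := hz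
  have hai : IsIntegral A a := (isIntegral_algHom_iff (IsScalarTower.toAlgHom A (FractionRing A) (Ω A))
    (algebraMap (FractionRing A) (Ω A)).injective).1 (show IsIntegral A (algebraMap _ _ a) from ha ▸ z.2)
  obtain rfl : ι ⟨a, hai⟩ = z := Subtype.ext ha
  exact (SetLike.ext_iff.1 heq ⟨a, hai⟩)

end Groth.Agent.QuasiSect5
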