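import Groth.Agent.QuasiSect5.Global

/-!
# Descent of properties along universally open surjections (EGA IV 14.5)
-/

set_option autoImplicit false
set_option linter.style.haveILetI false

universe u

open CategoryTheory AlgebraicGeometry Limits

namespace Groth.Agent.QuasiSect5

variable {X Y Y' Y'' : Scheme.{u}}

/-- A property stable under base change and local at the target passes to a cover with local sections. -/
theorem prop_of_hasLocSec (P : MorphismProperty Scheme.{u}) [P.IsStableUnderBaseChange] [IsZariskiLocalAtTarget P]
    (f : X ⟶ Y) (g : Y' ⟶ Y) (hP : P (pullback.snd f g)) (h : Y'' ⟶ Y) (hsec : HasLocSec g h Set.univ) :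
    P (pullback.snd f h) := by
  choose W j hj hmem s hs using fun y => hsec y trivial
  haveI := hj
  refine IsZariskiLocalAtTarget.of_iSup_eq_top (fun y : Y'' => (j y).opensRange)
    (TopologicalSpace.Opens.ext (Set.eq_univ_of_forall fun y => ?_)) fun y => ?_
  · rw [TopologicalSpace.Opens.coe_iSup]
    exact Set.mem_iUnion.2 ⟨y, hmem y⟩
  · rw [P.arrow_mk_iso_iff (morphismRestrictOpensRange _ _)]
    have h1 : P (pullback.snd (pullback.snd f g) (s y)) := MorphismProperty.pullback_snd _ _ hP
    rw [← pullbackLeftPullbackSndIso_hom_snd, P.cancel_left_of_respectsIso] at h1 ⊢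
    have e : pullback.snd f (s y ≫ g) = (pullback.congrHom rfl (hs y)).hom ≫ pullback.snd f (j y ≫ h) := by
      exact ((pullback.lift_snd _ _ _).trans (Category.comp_id _)).symm
    rwa [e, P.cancel_left_of_respectsIso] at h1

end Groth.Agent.QuasiSect5
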