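import Groth.Agent.QuasiSect5.Affine
import Groth.Agent.S1376

/-!
# Finite covers of Noetherian bases with local sections (EGA IV 14.5.10)
-/

set_option autoImplicit false
set_option linter.style.haveILetI false

universe u

open CategoryTheory AlgebraicGeometry Limits

namespace Groth.Agent.QuasiSect5

set_option maxHeartbeats 1000000 in
theorem exists_cover_affine {A : Type u} [CommRing A] [IsNoetherianRing A] {X : Scheme.{u}}
    (f : X ⟶ Spec (CommRingCat.of A)) [UniversallyOpen f] [Surjective f] [LocallyOfFiniteType f] :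
    ∃ (Y' : Scheme.{u}) (g : Y' ⟶ Spec (CommRingCat.of A)), IsFinite g ∧ Surjective g ∧ HasLocSec f g Set.univ := by
  classical
  let J := minimalPrimes A
  haveI : Finite J := (minimalPrimes.finite_of_isNoetherianRing A).to_subtype
  haveI : ∀ p : J, p.1.IsPrime := fun p => p.2.isPrime
  let π : ∀ p : J, Spec (CommRingCat.of (A ⧸ p.1)) ⟶ Spec (CommRingCat.of A) :=
    fun p => Spec.map (CommRingCat.ofHom (Ideal.Quotient.mk p.1))
  have hp : ∀ p : J, ∃ (B : Type u) (_ : CommRing B) (_ : Algebra (A ⧸ p.1) B), Module.Finite (A ⧸ p.1) B ∧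
      Function.Injective (algebraMap (A ⧸ p.1) B) ∧
      HasLocSec (pullback.snd f (π p)) (Spec.map (CommRingCat.ofHom (algebraMap (A ⧸ p.1) B))) Set.univ := fun p => by
    haveI : UniversallyOpen (pullback.snd f (π p)) := inferInstance
    haveI : Surjective (pullback.snd f (π p)) := inferInstance
    exact exists_cover_affine_domain (A := A ⧸ p.1) (pullback.snd f (π p))
  choose B hBr hBa hBfin hBinj hBsec using hp
  letI : ∀ p, Algebra A (B p) := fun p => ((algebraMap (A ⧸ p.1) (B p)).comp (Ideal.Quotient.mk p.1)).toAlgebra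
  haveI : ∀ p, IsScalarTower A (A ⧸ p.1) (B p) := fun p => .of_algebraMap_eq fun _ => rfl
  haveI : ∀ p, Module.Finite A (B p) := fun p => Module.Finite.trans (A ⧸ p.1) (B p)
  let g : Spec (CommRingCat.of (∀ p, B p)) ⟶ Spec (CommRingCat.of A) := Spec.map (CommRingCat.ofHom (algebraMap A (∀ p, B p)))
  let e : ∀ p, Spec (CommRingCat.of (B p)) ⟶ Spec (CommRingCat.of (∀ p, B p)) :=
    fun p => Spec.map (CommRingCat.ofHom (Pi.evalRingHom B p))
  have he : ∀ p, e p ≫ g = Spec.map (CommRingCat.ofHom (algebraMap (A ⧸ p.1) (B p))) ≫ π p := fun p => by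
    simp only [e, g, π, ← Spec.map_comp, ← CommRingCat.ofHom_comp]
    rfl
  haveI : ∀ p, IsOpenImmersion (e p) := fun p => by
    have : e p = Sigma.ι (fun p => Spec (CommRingCat.of (B p))) p ≫ sigmaSpec (fun p => CommRingCat.of (B p)) :=
      (ι_sigmaSpec (fun p => CommRingCat.of (B p)) p).symm
    rw [this]; infer_instance
  refine ⟨_, g, ?_, ⟨fun y => ?_⟩, fun y' _ => ?_⟩
  · rw [IsFinite.SpecMap_iff]
    exact RingHom.finite_algebraMap.mpr inferInstance
  · let q : Ideal A := (show PrimeSpectrum A from y).asIdeal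
    obtain ⟨p, hpm, hpq⟩ := Ideal.exists_minimalPrimes_le (J := q) (bot_le (a := q))
    let P : J := ⟨p, hpm⟩
    haveI : Algebra.IsIntegral (A ⧸ P.1) (B P) := Algebra.IsIntegral.of_finite _ _
    obtain ⟨z, hz⟩ : y ∈ Set.range (π P) := by
      show (show PrimeSpectrum A from y) ∈ Set.range (PrimeSpectrum.comap (Ideal.Quotient.mk P.1))
      rw [range_comap_of_surjective _ _ Ideal.Quotient.mk_surjective, Ideal.mk_ker]
      exact hpq
    have hs : Function.Surjective (PrimeSpectrum.comap (algebraMap (A ⧸ P.1) (B P))) :=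
      (RingHom.IsIntegral.comap_surjective (algebraMap_isIntegral_iff.mpr inferInstance) (hBinj P))
    obtain ⟨w, hw⟩ := hs z
    let w' : ↥(Spec (CommRingCat.of (B P))) := w
    refine ⟨(e P) w', ?_⟩
    rw [← Scheme.Hom.comp_apply (e P) g w', he, Scheme.Hom.comp_apply, ← hz]
    exact congrArg (π P) hw
  · obtain ⟨z, rfl⟩ := (asIso (sigmaSpec (fun p : J => CommRingCat.of (B p)))).hom.surjective y'
    obtain ⟨⟨p, z⟩, rfl⟩ := (sigmaMk fun p : J => Spec (CommRingCat.of (B p))).surjective z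
    obtain ⟨W, j, hj, hzj, s, hs⟩ := hBsec p z trivial
    haveI := hj
    refine ⟨W, j ≫ e p, inferInstance, ?_, s ≫ pullback.fst f (π p), ?_⟩
    · obtain ⟨w, hw⟩ := hzj
      refine ⟨w, ?_⟩
      rw [Scheme.Hom.comp_apply, hw]
      show e p z = _
      simp only [asIso_hom, sigmaMk_mk]
      rw [← Scheme.Hom.comp_apply]
      exact congrArg (fun φ => φ z) (ι_sigmaSpec (fun p : J => CommRingCat.of (B p)) p).symm
    · rw [Category.assoc, Category.assoc, pullback.condition, reassoc_of% hs, he]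

variable {X Y : Scheme.{u}} [IsNoetherian Y] (f : X ⟶ Y) [UniversallyOpen f] [Surjective f] [LocallyOfFiniteType f]

theorem exists_cover_on_affine {V : Y.Opens} (hV : IsAffineOpen V) :
    ∃ (Y' : Scheme.{u}) (g : Y' ⟶ Y), IsFinite g ∧ Surjective g ∧ HasLocSec f g V := by
  haveI : IsNoetherianRing Γ(Y, V) := IsLocallyNoetherian.component_noetherian ⟨V, hV⟩
  haveI : UniversallyOpen (pullback.snd f hV.fromSpec) := inferInstance
  haveI : Surjective (pullback.snd f hV.fromSpec) := inferInstance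
  obtain ⟨W, g₀, hfin, hsurj, hsec⟩ := exists_cover_affine (A := Γ(Y, V)) (pullback.snd f hV.fromSpec)
  haveI := hfin
  haveI := hsurj
  obtain ⟨Y', π, i, hπs, hπf, hpb⟩ := S1376.result V hV.isCompact (g₀ ≫ hV.isoSpec.inv)
  haveI : IsOpenImmersion i := MorphismProperty.of_isPullback hpb.flip (inferInstance : IsOpenImmersion V.ι)
  refine ⟨Y', π, hπf, hπs, fun y' hy' => ?_⟩
  obtain ⟨w, rfl⟩ : y' ∈ Set.range i := by
    obtain ⟨w, hw, -⟩ := Scheme.exists_preimage_of_isPullback hpb y' (⟨π y', hy'⟩ : (V : Scheme.{u})) rfl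
    exact ⟨w, hw⟩
  obtain ⟨W', j, hj, ⟨v, rfl⟩, s, hs⟩ := hsec w trivial
  haveI := hj
  refine ⟨W', j ≫ i, inferInstance, ⟨v, Scheme.Hom.comp_apply _ _ v⟩, s ≫ pullback.fst f hV.fromSpec, ?_⟩
  rw [Category.assoc, Category.assoc, pullback.condition, reassoc_of% hs, hpb.w, Category.assoc,
    ← IsAffineOpen.isoSpec_inv_ι]

omit [AlgebraicGeometry.IsNoetherian Y] [UniversallyOpen f] [Surjective f] [LocallyOfFiniteType f] in
theorem HasLocSec.comp {Y₁ Y₂ : Scheme.{u}} {g : Y₁ ⟶ Y} {S : Set Y} (h : HasLocSec f g S) (q : Y₂ ⟶ Y₁) :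
    HasLocSec f (q ≫ g) S := fun y hy => by
  obtain ⟨W, j, hj, ⟨w, hw⟩, s, hs⟩ := h (q y) (by rwa [← Scheme.Hom.comp_apply])
  haveI := hj
  refine ⟨pullback q j, pullback.fst q j, inferInstance, ?_, pullback.snd q j ≫ s, ?_⟩
  · obtain ⟨z, hz, -⟩ := Scheme.Pullback.exists_preimage_pullback (f := q) (g := j) y w hw.symm
    exact ⟨z, hz⟩
  · rw [Category.assoc, hs, pullback.condition_assoc]

/-- EGA IV 14.5.10. -/
theorem exists_cover : ∃ (Y' : Scheme.{u}) (g : Y' ⟶ Y), IsFinite g ∧ Surjective g ∧ HasLocSec f g Set.univ := by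
  classical
  have key : ∀ t : Finset Y.affineOpens, ∃ (Y' : Scheme.{u}) (g : Y' ⟶ Y), IsFinite g ∧ Surjective g ∧
      HasLocSec f g (⋃ V ∈ t, (V.1 : Set Y)) := by
    intro t
    induction t using Finset.induction with
    | empty => exact ⟨Y, 𝟙 Y, inferInstance, inferInstance, fun y hy => absurd hy (by simp)⟩
    | @insert V t hVt ih =>
      obtain ⟨Y₁, g₁, hf₁, hs₁, h₁⟩ := ih
      obtain ⟨Y₂, g₂, hf₂, hs₂, h₂⟩ := exists_cover_on_affine f V.2
      haveI := hf₁; haveI := hf₂; haveI := hs₁; haveI := hs₂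
      refine ⟨pullback g₁ g₂, pullback.fst g₁ g₂ ≫ g₁, inferInstance, inferInstance, fun y hy => ?_⟩
      simp only [Finset.set_biUnion_insert, Set.mem_union] at hy
      rcases hy with hy | hy
      · rw [pullback.condition] at hy ⊢
        exact h₂.comp f _ y hy
      · exact h₁.comp f _ y hy
  obtain ⟨t, ht⟩ := isCompact_univ.elim_finite_subcover (fun V : Y.affineOpens => (V.1 : Set Y))
    (fun V => V.1.isOpen) fun y _ => by
      obtain ⟨V, hV, hy, -⟩ := exists_isAffineOpen_mem_and_subset (x := y) (U := ⊤) (by trivial)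
      exact Set.mem_iUnion.2 ⟨⟨V, hV⟩, hy⟩
  obtain ⟨Y', g, hf, hs, h⟩ := key t
  exact ⟨Y', g, hf, hs, fun y _ => h y (ht (Set.mem_univ _))⟩

end Groth.Agent.QuasiSect5
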