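import Groth.Agent.QuasiSect5.Alg

/-!
# A quasi-finite neighbourhood maps to the absolute integral closure
-/

set_option autoImplicit false
set_option linter.style.haveILetI false

universe u

namespace Groth.Agent.QuasiSect5

variable (A : Type u) [CommRing A] [IsDomain A]

set_option maxHeartbeats 1000000 in
set_option synthInstance.maxHeartbeats 200000 in
theorem exists_section_ring (n : Ideal (N A)) [n.IsPrime] (B₀ : Subalgebra A (Ω A)) (hfg : B₀.FG)
    (hB₀ : B₀ ≤ N A) (hK : (B₀ : Set (Ω A)) ⊆ Set.range (algebraMap (FractionRing A) (Ω A)))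
    (hsep : ∀ P : Ideal (N A), P.IsPrime → (∀ c : B₀, (Subalgebra.inclusion hB₀ c ∈ P ↔ Subalgebra.inclusion hB₀ c ∈ n)) →
      ∀ z : N A, (z : Ω A) ∈ Set.range (algebraMap (FractionRing A) (Ω A)) → (z ∈ P ↔ z ∈ n))
    (R : Type u) [CommRing R] [IsDomain R] [Algebra B₀ R] [Algebra.FiniteType B₀ R] [Algebra.QuasiFinite B₀ R]
    (hinj : Function.Injective (algebraMap B₀ R)) (q : Ideal R) [q.IsPrime]
    (hq : ∀ c : B₀, algebraMap B₀ R c ∈ q ↔ Subalgebra.inclusion hB₀ c ∈ n) :
    ∃ B : Subalgebra A (Ω A), B.FG ∧ B ≤ N A ∧ ∃ s : B, (∀ hs : (s : Ω A) ∈ N A, (⟨s, hs⟩ : N A) ∉ n) ∧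
      ∃ g : R →+* Localization.Away s, ∀ a : A,
        g (algebraMap B₀ R (algebraMap A B₀ a)) = algebraMap B (Localization.Away s) (algebraMap A B a) := by
  obtain ⟨S', hS', r, hrq, hbij⟩ :=
    Algebra.ZariskisMainProperty.exists_fg_and_exists_notMem_and_awayMap_bijective (R := B₀) q
      (Algebra.ZariskisMainProperty.of_finiteType q)
  haveI : Module.Finite B₀ S' := Module.Finite.iff_fg.mpr hS'
  haveI : Algebra.IsIntegral B₀ S' := Algebra.IsIntegral.of_finite B₀ S'
  haveI : Module.IsTorsionFree B₀ S' := by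
    rw [Module.isTorsionFree_iff_algebraMap_injective]
    exact fun a b h => hinj (congrArg Subtype.val h)
  haveI : Module.IsTorsionFree B₀ (Ω A) := by
    rw [Module.isTorsionFree_iff_algebraMap_injective]
    exact Subtype.val_injective
  haveI : Algebra.IsAlgebraic B₀ S' := Algebra.IsIntegral.isAlgebraic
  let ι : S' →ₐ[B₀] Ω A := IsAlgClosed.lift
  haveI : Algebra.IsIntegral A B₀ := ⟨fun c => (isIntegral_algHom_iff B₀.val Subtype.val_injective).1 (hB₀ c.2)⟩
  have hιN : ∀ x, ι x ∈ N A := fun x =>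
    isIntegral_trans (R := A) (A := B₀) (ι x) (IsIntegral.map ι (Algebra.IsIntegral.isIntegral x))
  let ιN : S' →+* N A := ι.toRingHom.codRestrict (N A).toSubring hιN
  have hιc : ∀ c : B₀, ιN (algebraMap B₀ S' c) = Subalgebra.inclusion hB₀ c := fun c => Subtype.ext (ι.commutes c)
  let qS : Ideal S' := q.comap S'.val.toRingHom
  letI : Algebra S' (N A) := ιN.toAlgebra
  haveI : Algebra.IsIntegral S' (N A) := ⟨fun z => by
    obtain ⟨p, hp, hpz⟩ := (integralClosure.isIntegral z : IsIntegral A z)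
    refine ⟨p.map ((algebraMap B₀ S').comp (algebraMap A B₀)), hp.map _, ?_⟩
    rw [Polynomial.eval₂_map]
    convert hpz using 2
    refine RingHom.ext fun a => ?_
    exact (hιc _).trans (Subtype.ext rfl)⟩
  have hker : RingHom.ker (algebraMap S' (N A)) ≤ qS := by
    have : RingHom.ker (algebraMap S' (N A)) = ⊥ := by
      refine Ideal.eq_bot_of_comap_eq_bot (R := B₀) (eq_bot_iff.2 fun c hc => ?_)
      rw [Ideal.mem_comap, RingHom.mem_ker, RingHom.algebraMap_toAlgebra, hιc] at hc
      exact Subtype.ext (congrArg (fun z : N A => (z : Ω A)) hc)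
    rw [this]; exact bot_le
  obtain ⟨P, hP, hPq⟩ := Ideal.exists_ideal_over_prime_of_isIntegral_of_isDomain (S := N A) qS hker
  have hPn : ∀ c : B₀, Subalgebra.inclusion hB₀ c ∈ P ↔ Subalgebra.inclusion hB₀ c ∈ n := fun c => by
    rw [← hq c, ← hιc c]
    exact SetLike.ext_iff.1 hPq (algebraMap B₀ S' c)
  have hPr : ιN r ∉ P := fun h => hrq ((SetLike.ext_iff.1 hPq r).1 h)
  haveI := hP
  obtain ⟨σ, hσ⟩ := exists_conj_notMem A P n (fun z hz hzn => (hsep P hP hPn z hz).2 hzn) (ιN r) hPr
  let j : S' →+* Ω A := σ.toRingEquiv.toRingHom.comp ι.toRingHom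
  have hjc : ∀ c : B₀, j (algebraMap B₀ S' c) = (c : Ω A) := fun c => by
    obtain ⟨a, ha⟩ := hK c.2
    show σ (ι (algebraMap B₀ S' c)) = _
    rw [AlgHom.commutes]
    show σ (c : Ω A) = c
    rw [← ha, AlgEquiv.commutes]
  have hjN : ∀ x, j x ∈ N A := fun x => IsIntegral.map (σ.toAlgHom.restrictScalars A) (hιN x)
  obtain ⟨gens, hgens⟩ := (inferInstance : Module.Finite B₀ S').fg_top
  obtain ⟨E, hE⟩ := hfg
  classical
  let B := Algebra.adjoin A ((↑E ∪ j '' ↑gens) : Set (Ω A))
  have hEB : B₀ ≤ B := hE ▸ Algebra.adjoin_mono Set.subset_union_left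
  have hjB : ∀ x, j x ∈ B := fun x => by
    have hx : x ∈ Submodule.span B₀ (↑gens : Set S') := hgens ▸ trivial
    induction hx using Submodule.span_induction with
    | mem y hy => exact Algebra.subset_adjoin (Or.inr ⟨y, hy, rfl⟩)
    | zero => rw [map_zero]; exact B.zero_mem
    | add y z _ _ hy hz => rw [map_add]; exact B.add_mem hy hz
    | smul c y _ hy => rw [Algebra.smul_def, map_mul, hjc]; exact B.mul_mem (hEB c.2) hy
  refine ⟨B, Subalgebra.fg_def.2 ⟨_, E.finite_toSet.union (gens.finite_toSet.image j), rfl⟩, ?_,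
    ⟨j r, hjB r⟩, fun hs => hσ hs, ?_⟩
  · refine Algebra.adjoin_le fun z hz => ?_
    rcases hz with hz | ⟨y, -, rfl⟩
    · exact hB₀ (hE ▸ Algebra.subset_adjoin hz)
    · exact hjN y
  let jB : S' →+* B := j.codRestrict B.toSubring hjB
  let s : B := jB r
  let w : Localization.Away r →+* Localization.Away s := IsLocalization.Away.map _ _ jB r
  let e := RingEquiv.ofBijective (Localization.awayMap S'.val.toRingHom r) hbij
  refine ⟨(w.comp e.symm.toRingHom).comp (algebraMap R (Localization.Away (S'.val.toRingHom r))), fun a => ?_⟩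
  have h1 : algebraMap R (Localization.Away (S'.val.toRingHom r)) (algebraMap B₀ R (algebraMap A B₀ a))
      = e (algebraMap S' (Localization.Away r) (algebraMap B₀ S' (algebraMap A B₀ a))) := by
    show _ = IsLocalization.Away.map _ _ S'.val.toRingHom r _
    rw [IsLocalization.Away.map, IsLocalization.map_eq]
    rfl
  show w (e.symm (algebraMap R _ _)) = _
  rw [h1, RingEquiv.symm_apply_apply]
  refine (IsLocalization.map_eq _ _).trans (congrArg _ (Subtype.ext ?_))
  exact hjc _

end Groth.Agent.QuasiSect5
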